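import Mathlib

set_option autoImplicit false
namespace Cfsg.Agent.Lib.PermFix.Five

open Equiv Equiv.Perm Finset

section fx
variable {α : Type*} [Fintype α] [DecidableEq α]

/-- The number of fixed points. -/
def fx (p : Perm α) : ℕ := (univ.filter (fun x => p x = x)).card

lemma card_fixed (p : Perm α) : Nat.card (Function.fixedPoints ⇑p) = fx p := by
  classical
  unfold fx
  exact Nat.subtype_card _ (fun x => by simp [Function.mem_fixedPoints, Function.IsFixedPt])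

lemma fx_conj (s p : Perm α) : fx (s * p * s⁻¹) = fx p := by
  unfold fx
  apply Finset.card_bij' (fun x _ => s⁻¹ x) (fun x _ => s x)
  · intro x hx
    have hx' := (mem_filter.1 hx).2
    refine mem_filter.2 ⟨mem_univ _, ?_⟩
    rw [Perm.eq_inv_iff_eq]
    exact hx'
  · intro x hx
    have hx' := (mem_filter.1 hx).2
    refine mem_filter.2 ⟨mem_univ _, ?_⟩
    simp [hx']
  · intro x _
    simp
  · intro x _
    simp

lemma fx_comm (p r : Perm α) : fx (p * r) = fx (r * p) := by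
  have := fx_conj p (r * p)
  rw [← this]
  congr 1
  group

/-- Non-constancy. -/
def NC (a b : Perm α) : Prop :=
  ∃ g₁ g₂ : Perm α, sign g₁ = 1 ∧ sign g₂ = 1 ∧
    fx (a * (g₁ * b * g₁⁻¹)) ≠ fx (a * (g₂ * b * g₂⁻¹))

lemma NC_symm {a b : Perm α} (h : NC a b) : NC b a := by
  obtain ⟨g₁, g₂, h1, h2, h3⟩ := h
  refine ⟨g₁⁻¹, g₂⁻¹, by simp [h1], by simp [h2], ?_⟩
  have key : ∀ g : Perm α, fx (b * (g⁻¹ * a * g⁻¹⁻¹)) = fx (a * (g * b * g⁻¹)) := by
    intro g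
    rw [fx_comm a, ← fx_conj g⁻¹ (g * b * g⁻¹ * a)]
    congr 1
    group
  rw [key, key]
  exact h3

/-- Simultaneous conjugation. -/
lemma NC_of_conj (τ : Perm α) {a b : Perm α} (h : NC (τ * a * τ⁻¹) (τ * b * τ⁻¹)) : NC a b := by
  obtain ⟨g₁, g₂, h1, h2, h3⟩ := h
  have key : ∀ g : Perm α, fx ((τ * a * τ⁻¹) * (g * (τ * b * τ⁻¹) * g⁻¹)) =
      fx (a * ((τ⁻¹ * g * τ) * b * (τ⁻¹ * g * τ)⁻¹)) := by
    intro g
    rw [← fx_conj τ (a * ((τ⁻¹ * g * τ) * b * (τ⁻¹ * g * τ)⁻¹))]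
    congr 1
    group
  refine ⟨τ⁻¹ * g₁ * τ, τ⁻¹ * g₂ * τ, ?_, ?_, ?_⟩
  · simp [h1, mul_comm]
  · simp [h2, mul_comm]
  · rw [← key, ← key]
    exact h3

/-- Conjugating `b` by an even permutation. -/
lemma NC_of_conj_right {s : Perm α} (hs : sign s = 1) {a b : Perm α}
    (h : NC a (s * b * s⁻¹)) : NC a b := by
  obtain ⟨g₁, g₂, h1, h2, h3⟩ := h
  have key : ∀ g : Perm α, g * (s * b * s⁻¹) * g⁻¹ = (g * s) * b * (g * s)⁻¹ := by
    intro g
    group
  refine ⟨g₁ * s, g₂ * s, by simp [h1, hs], by simp [h2, hs], ?_⟩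
  rw [← key, ← key]
  exact h3

lemma fx_permCongr {β : Type*} [Fintype β] [DecidableEq β] (e : α ≃ β) (p : Perm α) :
    fx (e.permCongr p) = fx p := by
  unfold fx
  apply Finset.card_bij' (fun x _ => e.symm x) (fun x _ => e x)
  · intro x hx
    have hx' := (mem_filter.1 hx).2
    refine mem_filter.2 ⟨mem_univ _, ?_⟩
    rw [Equiv.permCongr_apply] at hx'
    rw [Equiv.eq_symm_apply]
    exact hx'
  · intro x hx
    have hx' := (mem_filter.1 hx).2
    refine mem_filter.2 ⟨mem_univ _, ?_⟩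
    rw [Equiv.permCongr_apply]
    simp [hx']
  · intro x _
    simp
  · intro x _
    simp

/-- Transport along a bijection. -/
lemma NC_congr {β : Type*} [Fintype β] [DecidableEq β] (e : α ≃ β) {a b : Perm α}
    (h : NC (e.permCongr a) (e.permCongr b)) : NC a b := by
  obtain ⟨g₁, g₂, h1, h2, h3⟩ := h
  have key2 : ∀ g : Perm β, fx (e.permCongr a * (g * e.permCongr b * g⁻¹)) =
      fx (a * (e.symm.permCongr g * b * (e.symm.permCongr g)⁻¹)) := by
    intro g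
    rw [← fx_permCongr e (a * (e.symm.permCongr g * b * (e.symm.permCongr g)⁻¹))]
    congr 1
    have hg : e.permCongrHom (e.symm.permCongr g) = g := by
      ext x
      simp [Equiv.permCongrHom, Equiv.permCongr_apply]
    change e.permCongrHom a * (g * e.permCongrHom b * g⁻¹) =
      e.permCongrHom (a * (e.symm.permCongr g * b * (e.symm.permCongr g)⁻¹))
    rw [map_mul, map_mul, map_mul, map_inv, hg]
  refine ⟨e.symm.permCongr g₁, e.symm.permCongr g₂, ?_, ?_, ?_⟩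
  · rw [sign_permCongr]; exact h1
  · rw [sign_permCongr]; exact h2
  · rw [← key2, ← key2]
    exact h3

end fx

section five

/-- Permutations from tables. -/
def ofT (f g : Fin 5 → Fin 5) (h1 : ∀ x, f (g x) = x := by decide)
    (h2 : ∀ x, g (f x) = x := by decide) : Perm (Fin 5) := ⟨f, g, h2, h1⟩

/-- The list of representatives. -/
def Reps : List (Perm (Fin 5)) :=
  [ofT ![0, 1, 2, 4, 3] ![0, 1, 2, 4, 3], ofT ![0, 1, 3, 4, 2] ![0, 1, 4, 2, 3],
   ofT ![0, 2, 1, 4, 3] ![0, 2, 1, 4, 3], ofT ![0, 2, 3, 4, 1] ![0, 4, 1, 2, 3],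
   ofT ![1, 0, 3, 4, 2] ![1, 0, 4, 2, 3], ofT ![1, 2, 3, 4, 0] ![4, 0, 1, 2, 3]]

/-- The list of conjugators. -/
def Conj5 : List (Perm (Fin 5)) :=
  [ofT ![2, 1, 4, 3, 0] ![4, 1, 0, 3, 2], ofT ![1, 2, 4, 0, 3] ![3, 0, 1, 4, 2],
   ofT ![4, 3, 0, 2, 1] ![2, 4, 3, 1, 0], ofT ![4, 1, 2, 0, 3] ![3, 1, 2, 4, 0],
   ofT ![0, 2, 1, 4, 3] ![0, 2, 1, 4, 3]]

set_option maxRecDepth 100000 in
lemma Conj5_sign : ∀ g ∈ Conj5, sign g = 1 := by decide

set_option maxRecDepth 1000000 in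
set_option maxHeartbeats 4000000 in
lemma reps_conj : ∀ a : Perm (Fin 5), a ≠ 1 → ∃ τ : Perm (Fin 5), τ * a * τ⁻¹ ∈ Reps := by decide

set_option maxRecDepth 1000000 in
set_option maxHeartbeats 4000000 in
lemma base_check : ∀ a ∈ Reps, ∀ b : Perm (Fin 5), b ≠ 1 →
    ∃ g ∈ Conj5, fx (a * (g * b * g⁻¹)) ≠ fx (a * b) := by decide

end five

lemma NC_five {a b : Perm (Fin 5)} (ha : a ≠ 1) (hb : b ≠ 1) : NC a b := by
  obtain ⟨τ, hτ⟩ := reps_conj a ha
  apply NC_of_conj τ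
  have hb' : τ * b * τ⁻¹ ≠ 1 := by
    intro h
    apply hb
    have h2 : b = τ⁻¹ * (τ * b * τ⁻¹) * τ := by group
    rw [h2, h]
    group
  obtain ⟨g, hg, hne⟩ := base_check _ hτ _ hb'
  refine ⟨g, 1, Conj5_sign g hg, map_one _, ?_⟩
  simpa using hne

end Cfsg.Agent.Lib.PermFix.Five
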